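import Cfsg.Agent.MathieuTwo.Check
set_option autoImplicit false

/-!
Sylow subgroups of odd order in the smallest Mathieu group.
-/

namespace CfsgLib.MathieuMisc

/-- Generators, order 9. -/
def gens3 : List (List ℕ) := [[0, 2, 4, 6, 1, 10, 18, 20, 9, 12, 14, 21, 8, 13, 5, 15, 16, 11, 3, 7, 19, 17, 22, 23], [0, 8, 9, 2, 12, 5, 4, 19, 18, 3, 10, 21, 6, 13, 14, 22, 16, 11, 1, 20, 7, 17, 23, 15]]

/-- The elements, order 9. -/
def tree3 : MathieuTwo.STree := (.node (.node (.node (.node .nil 653403651960041944057387686362755360 1 984654223438125024706643685492854848 2 .nil) 653630599406778364319414127004034304 1 984818244535754528103549039458486304 1 .nil) 653807559453683122748928684421325184 1 984396141799417092716394191820227712 3 (.node .nil 933785946729035946005791351115124288 1 653630599406778364319414127004034304 2 .nil)) 934031083228754250197273014034516160 1 653807559453683122748928684421325184 4 (.node (.node (.node .nil 934176899180149488759405711047661664 1 653403651960041944057387686362755360 3 .nil) 984396141799417092716394191820227712 0 984654223438125024706643685492854848 2 .nil) 984654223438125024706643685492854848 0 984818244535754528103549039458486304 1 (.node .nil 984818244535754528103549039458486304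 0 0 0 .nil)))

theorem ok3 : MathieuTwo.groupOk [1, 340831] gens3 tree3 9 = true := by decide +kernel

/-- Generators, order 5. -/
def gens5 : List (List ℕ) := [[0, 4, 1, 12, 6, 11, 8, 23, 2, 13, 17, 19, 9, 16, 14, 10, 3, 22, 18, 7, 20, 15, 21, 5]]

/-- The elements, order 5. -/
def tree5 : MathieuTwo.STree := (.node (.node (.node .nil 235585558585410045398894015024596096 0 984818244535754528103549039458486304 1 .nil) 313754123202485657777451180691562560 0 802925040527499435384341925913336064 4 .nil) 476825172209001810777655465528824000 0 235585558585410045398894015024596096 2 (.node (.node .nil 802925040527499435384341925913336064 0 476825172209001810777655465528824000 3 .nil) 984818244535754528103549039458486304 0 0 0 .nil))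

theorem ok5 : MathieuTwo.groupOk [1, 340831] gens5 tree5 5 = true := by decide +kernel

/-- Generators, order 11. -/
def gens11 : List (List ℕ) := [[0, 3, 16, 13, 6, 23, 1, 22, 4, 12, 15, 11, 18, 9, 21, 7, 8, 19, 2, 20, 5, 10, 17, 14]]

/-- The elements, order 11. -/
def tree11 : MathieuTwo.STree := (.node (.node (.node (.node .nil 217371075822704172344108453839554752 0 851194034431657252554952920424198272 10 .nil) 321327449316406372262627583982634560 0 630485601223115549596387296870472064 5 .nil) 441647855047046215068271832385065248 0 897607129220644802126077233387053472 3 (.node (.node .nil 604017291752241010623593493224144992 0 984818244535754528103549039458486304 1 .nil) 630485601223115549596387296870472064 0 441647855047046215068271832385065248 4 .nil)) 734232699530059132247273539104945664 0 932807430638019810482733161566964800 7 (.node (.node (.node .nil 802440871040005962365014114675336448 0 734232699530059132247273539104945664 8 .nil) 851194034431657252554952920424198272 0 802440871040005962365014114675336448 9 .nil) 897607129220644802126077233387053472 0 604017291752241010623593493224144992 2 (.node (.node .nil 932807430638019810482733161566964800 0 321327449316406372262627583982634560 6 .nil) 984818244535754528103549039458486304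 0 0 0 .nil)))

theorem ok11 : MathieuTwo.groupOk [1, 340831] gens11 tree11 11 = true := by decide +kernel

end CfsgLib.MathieuMisc
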